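import Groth.Agent.Misc1.Dyn.FlatRestrict
import Mathlib.RingTheory.Etale.Field
import Mathlib.RingTheory.Etale.Pi
import Mathlib.RingTheory.Artinian.Module
import Mathlib.FieldTheory.Perfect

/-!
# The connected-étale splitting of a finite group scheme whose reduced subscheme is a subgroup
-/

set_option autoImplicit false
set_option linter.style.haveILetI false

universe u

open TensorProduct WithConv

namespace Groth.Misc1.EtaleSplit

variable {k : Type u} [Field k]

lemma formallyEtale_of_isReduced [PerfectField k] (B : Type u) [CommRing B] [Algebra k B]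
    [FiniteDimensional k B] [IsReduced B] : Algebra.FormallyEtale k B := by
  haveI : IsArtinianRing B := IsArtinianRing.of_finite k B
  haveI : ∀ m : MaximalSpectrum B, Algebra.FormallyEtale k (B ⧸ m.asIdeal) := fun m => by
    letI := Ideal.Quotient.field m.asIdeal
    haveI : Module.Finite k (B ⧸ m.asIdeal) :=
      Module.Finite.of_surjective (Ideal.Quotient.mkₐ k m.asIdeal).toLinearMap Ideal.Quotient.mk_surjective
    haveI : Algebra.IsAlgebraic k (B ⧸ m.asIdeal) := Algebra.IsAlgebraic.of_finite k _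
    exact Algebra.FormallyEtale.of_isSeparable k (B ⧸ m.asIdeal)
  haveI : Algebra.FormallyEtale k (∀ m : MaximalSpectrum B, B ⧸ m.asIdeal) :=
    (Algebra.FormallyEtale.pi_iff _).2 inferInstance
  exact Algebra.FormallyEtale.of_equiv ((IsArtinianRing.equivPi B).symm.restrictScalars k)

variable {E : Type u} [CommRing E] [HopfAlgebra k E] [FiniteDimensional k E]
  [(nilradical E).IsHopfIdeal k]

/-- a section of the reduction compatible with all the structure -/
theorem exists_section [PerfectField k] : ∃ σ : E ⧸ nilradical E →ₐc[k] E,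
    ∀ x, Ideal.Quotient.mk (nilradical E) (σ x) = x := by
  set N := nilradical E
  haveI : IsArtinianRing E := IsArtinianRing.of_finite k E
  haveI : IsReduced (E ⧸ N) :=
    (Ideal.isRadical_iff_quotient_reduced N).1 (Ideal.radical_isRadical (⊥ : Ideal E))
  haveI := formallyEtale_of_isReduced (k := k) (E ⧸ N)
  have hN : IsNilpotent (RingHom.ker ((Ideal.Quotient.mkₐ k N) : E →+* E ⧸ N)) := by
    change IsNilpotent (RingHom.ker (Ideal.Quotient.mk N))
    rw [Ideal.mk_ker]
    exact IsArtinianRing.isNilpotent_nilradical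
  let σ₀ : E ⧸ N →ₐ[k] E := Algebra.FormallySmooth.liftOfSurjective (AlgHom.id k (E ⧸ N))
    (Ideal.Quotient.mkₐ k N) Ideal.Quotient.mk_surjective hN
  have hσ : ∀ x, Ideal.Quotient.mk N (σ₀ x) = x := fun x =>
    Algebra.FormallySmooth.liftOfSurjective_apply _ (Ideal.Quotient.mkₐ k N) _ hN x
  let Q := Algebra.TensorProduct.map (Ideal.Quotient.mkₐ k N) (Ideal.Quotient.mkₐ k N)
  have hQ : IsNilpotent (RingHom.ker (Q : E ⊗[k] E →+* (E ⧸ N) ⊗[k] (E ⧸ N))) := by
    haveI : IsArtinianRing (E ⊗[k] E) := IsArtinianRing.of_finite k _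
    obtain ⟨m, hm⟩ := IsArtinianRing.isNilpotent_nilradical (R := E ⊗[k] E)
    refine ⟨m, le_bot_iff.1 ((Ideal.pow_right_mono ?_ m).trans hm.le)⟩
    change RingHom.ker Q ≤ _
    rw [Algebra.TensorProduct.map_ker _ _ Ideal.Quotient.mk_surjective
      Ideal.Quotient.mk_surjective, show RingHom.ker (Ideal.Quotient.mkₐ k N) = N from Ideal.mk_ker]
    refine sup_le (Ideal.map_le_iff_le_comap.2 fun x hx => ?_) (Ideal.map_le_iff_le_comap.2 fun x hx => ?_) <;>
      exact (mem_nilradical.1 hx).map _
  refine ⟨BialgHom.ofAlgHom σ₀ (AlgHom.ext fun x => ?_) ?_, hσ⟩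
  · change Coalgebra.counit (R := k) (σ₀ x) = Coalgebra.counit (R := k) x
    conv_rhs => rw [← hσ x]
    rfl
  · refine Algebra.FormallyUnramified.lift_unique' Q hQ _ _ (AlgHom.ext fun x => ?_)
    have h1 : Q (Bialgebra.comulAlgHom k E (σ₀ x)) = Bialgebra.comulAlgHom k (E ⧸ N) x := by
      conv_rhs => rw [← hσ x]
      rfl
    have h2 : Q.comp (Algebra.TensorProduct.map σ₀ σ₀) = AlgHom.id k _ := by
      ext y <;> simp [Q, hσ, ← Algebra.TensorProduct.one_def]
    simp only [AlgHom.comp_apply]
    rw [h1]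
    exact DFunLike.congr_fun h2 _

variable (σ : E ⧸ nilradical E →ₐc[k] E)

/-- the ideal of the kernel of the retraction onto the reduced subgroup -/
noncomputable def locI : Ideal E :=
  Ideal.span (Set.range fun x => σ x - algebraMap k E (Coalgebra.counit x))

lemma represents_locI {R : Type u} [CommRing R] [Algebra k R] (g : E →ₐ[k] R) :
    (∀ a ∈ locI σ, g a = 0) ↔ Groth.Misc1.Dyn.pre σ (toConv g) = 1 := by
  constructor
  · intro h
    refine WithConv.ofConv_injective (AlgHom.ext fun x => ?_)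
    have := h _ (Ideal.subset_span ⟨x, rfl⟩)
    rw [map_sub, AlgHom.commutes, sub_eq_zero] at this
    exact this
  · intro h
    suffices locI σ ≤ RingHom.ker g from fun a ha => this ha
    refine Ideal.span_le.2 ?_
    rintro _ ⟨x, rfl⟩
    have := DFunLike.congr_fun (congrArg WithConv.ofConv h) x
    rw [SetLike.mem_coe, RingHom.mem_ker, map_sub, AlgHom.commutes, sub_eq_zero]
    exact this

theorem isHopfIdeal_locI : (locI σ).IsHopfIdeal k :=
  Groth.Misc1.Dyn.isHopfIdeal_of_represents (locI σ) (fun R _ _ g => Groth.Misc1.Dyn.pre σ (toConv g) = 1)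
    (fun _ _ _ g => represents_locI σ g) (fun _ _ _ => map_one _)
    (fun _ _ _ f g hf hg => by
      rw [toConv_ofConv] at hf hg ⊢
      rw [map_mul, hf, hg, one_mul])
    (fun _ _ _ f hf => by
      rw [toConv_ofConv] at hf ⊢
      rw [map_inv, hf, inv_one])

variable (hσ : ∀ x, Ideal.Quotient.mk (nilradical E) (σ x) = x)

include hσ in
theorem isLocalRing_locI : IsLocalRing (E ⧸ locI σ) := by
  haveI := isHopfIdeal_locI σ
  haveI : Nontrivial (E ⧸ locI σ) :=
    RingHom.domain_nontrivial (Bialgebra.counitAlgHom k (E ⧸ locI σ)).toRingHom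
  refine IsLocalRing.of_isUnit_or_isUnit_one_sub_self fun x => ?_
  obtain ⟨a, rfl⟩ := Ideal.Quotient.mk_surjective x
  set c := Coalgebra.counit (R := k) a with hc
  set y := Ideal.Quotient.mk (nilradical E) a
  have h1 : a - σ y ∈ nilradical E := Ideal.Quotient.eq.1 (hσ y).symm
  have h2 : Ideal.Quotient.mk (locI σ) (σ y) = algebraMap k _ c := by
    refine (Ideal.Quotient.eq).2 ?_
    exact Ideal.subset_span ⟨y, rfl⟩
  have hn : IsNilpotent (Ideal.Quotient.mk (locI σ) a - algebraMap k _ c) := by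
    rw [← h2, ← map_sub]
    exact (mem_nilradical.1 h1).map _
  have key : ∀ (d : k), d ≠ 0 → ∀ z : E ⧸ locI σ, IsNilpotent z → IsUnit (algebraMap k _ d + z) :=
    fun d hd z hz => hz.isUnit_add_left_of_commute ((isUnit_iff_ne_zero.2 hd).map _) (Commute.all _ _)
  by_cases hc0 : c = 0
  · right
    rw [hc0, map_zero, sub_zero] at hn
    simpa [sub_eq_add_neg] using key 1 one_ne_zero _ hn.neg
  · left
    simpa using key c hc0 _ hn

include hσ in
theorem bijective_locI : Function.Bijective ((Algebra.TensorProduct.map (Ideal.Quotient.mkₐ k (nilradical E))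
    (Ideal.Quotient.mkₐ k (locI σ))).comp (Bialgebra.comulAlgHom k E)) := by
  set N := nilradical E
  set I := locI σ
  set μ := (Algebra.TensorProduct.map (Ideal.Quotient.mkₐ k N) (Ideal.Quotient.mkₐ k I)).comp
    (Bialgebra.comulAlgHom k E) with hμdef
  let q := Ideal.Quotient.mkₐ k N
  let p := Ideal.Quotient.mkₐ k I
  let iL : E ⧸ N →ₐ[k] (E ⧸ N) ⊗[k] (E ⧸ I) := Algebra.TensorProduct.includeLeft
  let iR : E ⧸ I →ₐ[k] (E ⧸ N) ⊗[k] (E ⧸ I) := Algebra.TensorProduct.includeRight
  have hμ : toConv (iL.comp q) * toConv (iR.comp p) = toConv μ := by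
    apply WithConv.ofConv_injective
    rw [AlgHom.convMul_def, ofConv_toConv, hμdef, ← AlgHom.comp_assoc]
    congr 1
    ext <;> simp [iL, iR, q, p]
  -- the projection on the reduced subgroup and the complementary factor of the universal point
  let π : E →ₐ[k] E := (σ : E ⧸ N →ₐ[k] E).comp q
  let u : WithConv (E →ₐ[k] E) := (toConv π)⁻¹ * toConv (AlgHom.id k E)
  have hπσ : Groth.Misc1.Dyn.pre σ (toConv π) = Groth.Misc1.Dyn.pre σ (toConv (AlgHom.id k E)) :=
    WithConv.ofConv_injective (AlgHom.ext fun x => congrArg σ (hσ x))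
  have hu : Groth.Misc1.Dyn.pre σ u = 1 := by
    rw [map_mul, map_inv, hπσ, inv_mul_cancel]
  let u' : E ⧸ I →ₐ[k] E := Ideal.Quotient.liftₐ I u.ofConv ((represents_locI σ u.ofConv).2 hu)
  let ν : (E ⧸ N) ⊗[k] (E ⧸ I) →ₐ[k] E :=
    Algebra.TensorProduct.lift (σ : E ⧸ N →ₐ[k] E) u' (fun _ _ => Commute.all _ _)
  have hν1 : ν.comp iL = (σ : E ⧸ N →ₐ[k] E) := AlgHom.ext fun x => by simp [ν, iL]
  have hν2 : ν.comp iR = u' := AlgHom.ext fun x => by simp [ν, iR]
  have h1 : ν.comp μ = AlgHom.id k E := by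
    refine congrArg WithConv.ofConv (show Groth.Misc1.Dyn.post ν (toConv μ) = toConv (AlgHom.id k E) from ?_)
    rw [← hμ, map_mul]
    exact (congrArg₂ (· * ·)
      (show Groth.Misc1.Dyn.post ν (toConv (iL.comp q)) = toConv π from
        congrArg toConv (by rw [ofConv_toConv, ← AlgHom.comp_assoc, hν1]))
      (show Groth.Misc1.Dyn.post ν (toConv (iR.comp p)) = u from
        WithConv.ofConv_injective (by
          rw [Groth.Misc1.Dyn.ofConv_post, ofConv_toConv, ← AlgHom.comp_assoc, hν2]
          rfl))).trans (mul_inv_cancel_left _ _)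
  have hμσ : μ.comp (σ : E ⧸ N →ₐ[k] E) = iL := by
    have hR : Groth.Misc1.Dyn.pre σ (toConv (iR.comp p)) = 1 :=
      (represents_locI σ _).1 fun a ha => by simp [p, I, Ideal.Quotient.eq_zero_iff_mem.2 ha]
    refine congrArg WithConv.ofConv (show Groth.Misc1.Dyn.pre σ (toConv μ) = toConv iL from ?_)
    rw [← hμ, map_mul]
    have hL : Groth.Misc1.Dyn.pre σ (toConv (iL.comp q)) = toConv iL :=
      WithConv.ofConv_injective (AlgHom.ext fun x => congrArg (fun y : E ⧸ N => iL y) (hσ x))
    exact (congrArg₂ (· * ·) hL hR).trans (mul_one (toConv iL))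
  have hπμ : Groth.Misc1.Dyn.post μ (toConv π) = toConv (iL.comp q) :=
    congrArg toConv (by rw [ofConv_toConv, ← AlgHom.comp_assoc, hμσ])
  have h2 : μ.comp ν = AlgHom.id k _ := by
    refine Algebra.TensorProduct.ext (AlgHom.ext fun x => ?_) (Ideal.Quotient.algHom_ext k ?_)
    · have := DFunLike.congr_fun hμσ x
      simpa [ν, iL] using! this
    · refine AlgHom.ext fun a => ?_
      have hμu : Groth.Misc1.Dyn.post μ u = toConv (iR.comp p) := ?_
      · have := DFunLike.congr_fun (congrArg WithConv.ofConv hμu) a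
        simpa [ν, u', iR, p] using! this
      rw [map_mul, map_inv, hπμ, show Groth.Misc1.Dyn.post μ (toConv (AlgHom.id k E)) = toConv μ from rfl, ← hμ,
        inv_mul_cancel_left]
  exact Function.bijective_iff_has_inverse.2
    ⟨ν, fun a => DFunLike.congr_fun h1 a, fun z => DFunLike.congr_fun h2 z⟩

include hσ in
theorem eq_locI [PerfectField k] {J : Ideal E} [J.IsHopfIdeal k] [IsLocalRing (E ⧸ J)]
    (hJ : Function.Bijective ((Algebra.TensorProduct.map (Ideal.Quotient.mkₐ k (nilradical E))
      (Ideal.Quotient.mkₐ k J)).comp (Bialgebra.comulAlgHom k E))) : J = locI σ := by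
  haveI : IsArtinianRing E := IsArtinianRing.of_finite k E
  haveI : IsReduced (E ⧸ nilradical E) :=
    (Ideal.isRadical_iff_quotient_reduced _).1 (Ideal.radical_isRadical (⊥ : Ideal E))
  haveI := formallyEtale_of_isReduced (k := k) (E ⧸ nilradical E)
  haveI : IsArtinianRing (E ⧸ J) := inferInstance
  have hker : IsNilpotent (RingHom.ker (Bialgebra.counitAlgHom k (E ⧸ J) : E ⧸ J →+* k)) := by
    have hle : RingHom.ker (Bialgebra.counitAlgHom k (E ⧸ J) : E ⧸ J →+* k) ≤
        IsLocalRing.maximalIdeal (E ⧸ J) := IsLocalRing.le_maximalIdeal (RingHom.ker_ne_top _)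
    obtain ⟨m, hm⟩ := IsArtinianRing.isNilpotent_jacobson_bot (R := E ⧸ J)
    refine ⟨m, le_bot_iff.1 ((Ideal.pow_right_mono (hle.trans ?_) m).trans hm.le)⟩
    rw [IsLocalRing.jacobson_eq_maximalIdeal _ bot_ne_top]
  have hle : locI σ ≤ J := by
    refine Ideal.span_le.2 ?_
    rintro _ ⟨x, rfl⟩
    have := Algebra.FormallyUnramified.lift_unique' (Bialgebra.counitAlgHom k (E ⧸ J)) hker
      ((Ideal.Quotient.mkₐ k J).comp (σ : E ⧸ nilradical E →ₐ[k] E))
      ((Algebra.ofId k (E ⧸ J)).comp (Bialgebra.counitAlgHom k (E ⧸ nilradical E)))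
      (AlgHom.ext fun y => by
        simp only [AlgHom.comp_apply, Bialgebra.counitAlgHom_apply]
        rw [show Algebra.ofId k (E ⧸ J) (Coalgebra.counit y) = algebraMap k (E ⧸ J) (Coalgebra.counit y) from rfl,
          ← Bialgebra.counitAlgHom_apply (R := k) (A := E ⧸ J) (algebraMap k (E ⧸ J) _), AlgHom.commutes]
        exact CoalgHomClass.counit_comp_apply σ y)
    refine (Ideal.Quotient.eq).1 ?_
    exact DFunLike.congr_fun this x
  have d1 := (LinearEquiv.ofBijective ((Algebra.TensorProduct.map (Ideal.Quotient.mkₐ k (nilradical E))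
      (Ideal.Quotient.mkₐ k J)).comp (Bialgebra.comulAlgHom k E)).toLinearMap hJ).finrank_eq
  have d2 := (LinearEquiv.ofBijective _ (show Function.Bijective ((Algebra.TensorProduct.map
      (Ideal.Quotient.mkₐ k (nilradical E)) (Ideal.Quotient.mkₐ k (locI σ))).comp
        (Bialgebra.comulAlgHom k E)).toLinearMap from bijective_locI σ hσ)).finrank_eq
  rw [Module.finrank_tensorProduct] at d1 d2
  have hpos : 0 < Module.finrank k (E ⧸ nilradical E) := by
    haveI : Nontrivial (E ⧸ nilradical E) :=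
      RingHom.domain_nontrivial (Bialgebra.counitAlgHom k (E ⧸ nilradical E)).toRingHom
    exact Module.finrank_pos
  have hd : Module.finrank k (E ⧸ locI σ) = Module.finrank k (E ⧸ J) :=
    Nat.eq_of_mul_eq_mul_left hpos (d2.symm.trans d1)
  have hinj : Function.Injective (Ideal.Quotient.factorₐ k hle).toLinearMap :=
    (LinearMap.injective_iff_surjective_of_finrank_eq_finrank hd).2 (Ideal.Quotient.factor_surjective hle)
  refine le_antisymm (fun a ha => Ideal.Quotient.eq_zero_iff_mem.1 (hinj ?_)) hle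
  rw [map_zero]
  exact Ideal.Quotient.eq_zero_iff_mem.2 ha

end Groth.Misc1.EtaleSplit
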